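import Cfsg.Agent.H0.TC
set_option maxRecDepth 100000
namespace H0.TCS430
open H0
noncomputable def r0 : TC.WTr := (.node (.node (.node (.node (.node (.node (.leaf [0] 0 0 false) (.leaf [5, 4, 1, 8, 4, 2, 5] 48 5 false)) (.node (.leaf [8, 3, 8, 4] 29 3 false) (.leaf [11] 11 1 false))) (.node (.node (.leaf [2, 2, 2, 2] 32 0 true) (.leaf [9] 9 1 false)) (.leaf [8, 5, 8, 4] 30 1 false))) (.node (.node (.node (.leaf [1, 0, 4, 10, 0, 8] 42 4 true) (.leaf [2, 4, 10, 3, 1] 49 0 true)) (.leaf [10, 4, 5, 4, 4] 24 4 false)) (.node (.node (.leaf [3, 6, 3, 9, 6] 24 2 true) (.leaf [12] 11 0 false)) (.leaf [10, 5, 4, 10] 28 1 true)))) (.node (.node (.node (.node (.leaf [4, 5, 5, 10, 0, 2, 7, 1] 53 8 true) (.leaf [1, 0, 9, 5, 4, 0, 2] 51 2 false)) (.leaf [3] 3 1 false)) (.node (.node (.leaf [1] 1 1 false) (.leaf [11, 11] 13 0 false)) (.leaf [2, 8, 4, 1, 7, 2] 45 5 true))) (.node (.node (.node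 (.leaf [10, 2, 4, 9, 3] 49 4 false) (.leaf [12] 16 0 false)) (.leaf [6] 5 0 false)) (.node (.node (.leaf [4] 3 0 false) (.leaf [7, 9, 8, 10, 8] 20 5 false)) (.leaf [7] 7 1 false))))) (.node (.node (.node (.node (.node (.leaf [11, 3, 0, 8, 5, 5, 3] 43 0 false) (.leaf [1, 1, 0, 4, 10, 0] 42 3 true)) (.leaf [9, 3, 1, 10, 2] 49 1 false)) (.node (.node (.leaf [12, 4, 2, 4, 5, 5, 7] 46 4 true) (.leaf [9] 9 1 false)) (.leaf [1, 3, 2, 3, 1] 44 1 false))) (.node (.node (.node (.leaf [6, 1, 3, 2, 3] 44 0 false) (.leaf [10] 9 0 false)) (.leaf [4, 7, 5, 4] 23 3 true)) (.node (.node (.leaf [1, 3, 11, 1, 8, 6, 6] 46 7 false) (.leaf [11] 11 1 false)) (.leaf [1, 4, 5, 5, 10, 2] 41 5 true)))) (.node (.node (.node (.node (.leaf [4, 1, 7, 5, 1, 4] 50 2 false) (.leaf [3, 1, 10, 2, 4] 49 2 false)) (.leaf [8, 4, 6, 8] 30 3 false)) (.node (.node (.leaf [1] 1 1 false) (.leaf [3, 0, 8, 5, 5, 3, 0] 43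 1 false)) (.leaf [2, 12, 4, 2, 4, 5, 5] 46 3 true))) (.node (.node (.node (.leaf [2] 1 0 false) (.leaf [4, 1, 12, 2, 3] 39 1 true)) (.leaf [3, 2, 8, 1, 9, 6] 41 5 false)) (.node (.node (.leaf [3] 3 1 false) (.leaf [11] 11 1 false)) (.leaf [8, 8] 14 0 true))))))
noncomputable def r1 : TC.WTr := (.node (.node (.node (.node (.node (.node (.leaf [8, 1, 1, 0, 4, 10] 42 2 true) (.leaf [3, 6, 3, 6] 23 4 false)) (.node (.leaf [12, 5, 8, 9, 7] 31 3 true) (.leaf [11] 11 1 false))) (.node (.node (.leaf [4, 1, 4, 2, 5] 44 5 true) (.leaf [9] 9 1 false)) (.leaf [6, 3, 1, 3, 11, 1, 8] 46 5 false))) (.node (.node (.node (.leaf [11, 2, 3, 9, 4] 39 0 false) (.leaf [8, 10, 8, 12, 7] 20 1 false)) (.leaf [4, 10, 7, 10] 28 3 true)) (.node (.node (.leaf [3, 3, 3, 3, 3] 21 0 false) (.leaf [12] 11 0 false)) (.leaf [4, 10, 6, 2, 4, 0, 3, 1] 52 5 false)))) (.node (.node (.node (.node (.leaf [1, 1, 0,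 1, 3, 1] 33 2 true) (.leaf [11] 16 1 true)) (.leaf [3] 3 1 false)) (.node (.node (.leaf [1] 1 1 false) (.leaf [3, 8, 10, 7, 6] 31 1 false)) (.leaf [4, 7, 3, 3] 29 3 true))) (.node (.node (.node (.leaf [4, 5, 5, 10, 2, 7] 41 6 true) (.leaf [5, 1, 1, 12, 1, 6, 6] 47 2 true)) (.leaf [5] 5 1 false)) (.node (.node (.leaf [4] 3 0 false) (.leaf [12, 12] 13 0 true)) (.leaf [1, 0, 9, 6, 6, 3, 0, 2] 53 2 false))))) (.node (.node (.node (.node (.node (.leaf [5, 0, 6] 38 2 false) (.leaf [7] 7 1 false)) (.leaf [7, 3, 3, 7] 29 4 true)) (.node (.node (.leaf [8, 1, 9, 6, 6, 3] 41 0 false) (.leaf [2, 3, 9, 4, 1] 39 1 false)) (.leaf [8, 3, 6, 3] 23 3 false))) (.node (.node (.node (.leaf [0, 1, 1, 0, 1, 3] 33 1 true) (.leaf [9] 9 1 false)) (.leaf [4, 5, 4, 7] 23 1 true)) (.node (.node (.leaf [7, 4, 7, 3] 29 2 true) (.leaf [10] 16 1 false)) (.leaf [5, 4, 5, 4] 23 0 true)))) (.node (.node (.node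 (.node (.leaf [0] 0 0 false) (.leaf [6, 3, 3, 6, 3] 24 0 true)) (.leaf [10, 2, 7, 1, 4, 5] 41 2 true)) (.node (.node (.leaf [10, 4, 1, 12, 2] 39 0 true) (.leaf [12] 11 0 false)) (.leaf [3, 0, 4, 8, 0] 40 4 false))) (.node (.node (.node (.leaf [1] 1 1 false) (.leaf [9] 9 1 false)) (.leaf [7, 0, 4, 12, 0, 4, 6] 43 2 true)) (.node (.node (.leaf [7, 5, 4, 5] 23 4 true) (.leaf [11] 11 1 false)) (.leaf [3, 8, 4, 4] 29 4 false))))))
noncomputable def r2 : TC.WTr := (.node (.node (.node (.node (.node (.node (.leaf [2, 0, 5, 3, 5, 4, 0, 3] 54 2 false) (.leaf [10, 8, 12, 7, 9] 20 2 false)) (.node (.leaf [1, 7, 2, 6, 2, 8] 45 1 true) (.leaf [11] 11 1 false))) (.node (.node (.leaf [3, 1, 6, 1, 3] 44 4 false) (.leaf [9] 9 1 false)) (.leaf [9, 8, 9, 3] 28 1 false))) (.node (.node (.node (.leaf [3, 2, 3, 1, 6] 44 2 false) (.leaf [6, 6, 3, 2, 8, 1] 41 3 false)) (.leaf [5, 10, 2, 7, 1, 4] 41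 1 true)) (.node (.node (.leaf [1, 9, 2, 4, 10] 49 4 true) (.leaf [12] 11 0 false)) (.leaf [6, 7, 5, 3] 30 0 true)))) (.node (.node (.node (.node (.leaf [4, 8, 0, 7, 3] 40 0 false) (.leaf [9, 9] 15 0 false)) (.leaf [3] 3 1 false)) (.node (.node (.leaf [1] 1 1 false) (.leaf [1, 8, 6, 6, 3, 1, 3] 46 2 false)) (.leaf [8] 7 0 false))) (.node (.node (.node (.leaf [5, 9, 3, 8, 2, 4, 0, 3] 52 8 true) (.leaf [8, 12, 7, 9, 8] 20 3 false)) (.leaf [6] 5 0 false)) (.node (.node (.leaf [4] 3 0 false) (.leaf [5, 8, 9, 7, 4] 31 4 true)) (.leaf [1, 9, 6, 6, 3, 2] 41 1 false))))) (.node (.node (.node (.node (.node (.leaf [3, 1, 7, 4, 10, 6, 2, 4] 52 2 false) (.leaf [4, 4, 8, 3] 29 1 false)) (.leaf [2, 5, 2, 4, 1] 44 2 true)) (.node (.node (.leaf [0, 2, 4, 2, 0, 2] 33 3 false) (.leaf [12] 11 0 false)) (.leaf [6, 10, 5, 1, 1, 12, 1] 47 0 true))) (.node (.node (.node (.leaf [7, 5, 1, 4, 0, 4] 50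 4 false) (.leaf [10] 9 0 false)) (.leaf [1, 8, 2, 3, 7, 1] 45 1 false)) (.node (.node (.leaf [1, 0, 1, 1, 0, 1] 33 0 true) (.leaf [0, 4, 6, 6, 7, 0, 4] 43 6 true)) (.leaf [1, 5, 1, 8, 2, 3] 45 6 false)))) (.node (.node (.node (.node (.leaf [9, 3, 0, 2, 2, 7] 42 4 false) (.leaf [3, 6, 9, 8] 28 4 false)) (.leaf [3, 0, 11, 3, 0, 8, 5] 43 6 false)) (.node (.node (.leaf [4] 3 0 false) (.leaf [12] 11 0 false)) (.leaf [7, 7] 14 0 false))) (.node (.node (.node (.leaf [2] 1 0 false) (.leaf [5, 4, 10, 7] 28 2 true)) (.leaf [3, 3, 6, 3, 9] 24 1 true)) (.node (.node (.leaf [10, 7, 10, 5] 28 4 true) (.leaf [11] 11 1 false)) (.leaf [9, 3, 6, 9] 28 3 false))))))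
noncomputable def r3 : TC.WTr := (.node (.node (.node (.node (.node (.node (.leaf [3, 2, 6, 8, 2, 3] 50 4 true) (.leaf [2, 3, 7, 1, 5, 1] 45 3 false)) (.leaf [5, 4, 4, 5, 10] 24 0 false)) (.node (.node (.leaf [4, 10, 3, 1, 9] 49 1 true) (.leaf [9] 9 1 false)) (.leaf [8, 2, 3, 0, 3, 2] 50 0 true))) (.node (.node (.node (.leaf [1, 1, 1, 1] 32 0 false) (.leaf [10] 9 0 false)) (.leaf [2, 4, 1, 4, 2] 44 4 true)) (.node (.node (.leaf [9, 4, 1, 11, 2] 39 3 false) (.leaf [12] 11 0 false)) (.leaf [0, 9, 3, 0, 2, 2] 42 3 false)))) (.node (.node (.node (.node (.leaf [2, 2, 0, 2, 4, 2] 33 1 false) (.leaf [4, 1, 11, 2, 3] 39 4 false)) (.leaf [6] 5 0 false)) (.node (.node (.leaf [1] 1 1 false) (.leaf [7, 9, 7, 10, 8] 20 0 true)) (.leaf [2, 3, 6, 7, 6, 1, 3] 48 6 true))) (.node (.node (.node (.leaf [2] 1 0 false) (.leaf [10, 10] 15 0 true)) (.leaf [0, 5, 0] 38 1 false)) (.node (.node (.leaf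 [4] 3 0 false) (.leaf [4, 2, 4, 5, 5, 7, 2] 46 5 true)) (.leaf [0, 7, 3, 0, 4] 40 2 false))))) (.node (.node (.node (.node (.node (.leaf [7, 3, 0, 4, 8] 40 3 false) (.leaf [10] 9 0 false)) (.leaf [3] 3 1 false)) (.node (.node (.leaf [1] 1 1 false) (.leaf [9] 16 0 true)) (.leaf [7, 5, 3, 7] 30 1 true))) (.node (.node (.node (.leaf [0, 3, 6, 10, 0, 2, 10] 51 6 true) (.leaf [2, 4, 9, 3, 1] 49 5 false)) (.leaf [6] 5 0 false)) (.node (.node (.leaf [1, 6, 1, 3, 2] 44 5 false) (.leaf [1, 6, 6, 10, 5, 1, 1] 47 6 true)) (.leaf [8] 7 0 false)))) (.node (.node (.node (.node (.leaf [2] 1 0 false) (.leaf [7, 10, 8, 11, 7] 20 2 true)) (.leaf [1, 1, 12, 1, 6, 6, 10] 47 3 true)) (.node (.node (.leaf [6, 3, 6, 8] 23 0 false) (.leaf [12] 11 0 false)) (.leaf [3, 3, 7, 4] 29 0 true))) (.node (.node (.node (.leaf [6, 2, 8, 4, 1, 7] 45 4 true) (.leaf [9] 9 1 false)) (.leaf [6, 6, 6, 6, 6] 22 0 true))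 (.node (.node (.leaf [0, 4, 1, 7, 5, 1] 50 1 false) (.leaf [11] 11 1 false)) (.leaf [5, 8, 4, 6] 30 2 false))))))
noncomputable def tS : Tr := (.leaf (nat_lit 0xfff49ea7a2f40ee4a03bde72277cdbcee0bce37ffa4052a9149405b2ed090ba4058aae261622efff53260d3986890dc5b8d930169a944893d2a7ffc99a4b17520cfca4900a684ac90816a24cd4fff2a6414825e287e3f42f85eeda2c85986516fffc5b22316655a4f77e8e42c30149f16d61ba3ffe4ea41b1b904764d8bbf30d20c2bac6835357ffaf06305809c3ae1cb3f1fe2c26bc7e82ba28ffe29a171360ad0dd3d45b8b69e8ccbad79f01fffc0773c3d8afcab3ee6c6078567c6d6550b58fff07e2141a56e441eb0b077b0da1b1bf0aceffffb557fcd79aabfc4c4295fd055619179d61f7ffe290990ba0a8ef55dba960aaed42af2801097ff90b14815071ac25d4e921a3565e0339143b2ffe88524a71492744fcb53378d502a3a477c7a3ffa984e0a61383092d89ad3105456af6d1ca67ffe87d23a1f3ee8992991f3d2700e0054150893ffc2c1fa8559e40572084815b9039535693a16ffe9f95c2b84fc9153682b436a553688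b71f00fff8dc1682d0462127b90c22f33c056f70ba08cffe36c598b3116bad3ea455300ad759c516a217ffa424349a9211a2394f70e19f629620c159e9fff3f64227ca4ac9174216716720e448471c0afffae545c5994a82a159214729a13e221a42b8effea2a02aed51435c7f8ad05449ca7c0710aa63ff99e38c718f71b62960a92094b71427c581f6ffe4b99e38c48c3547eb3b1aeba0150af3e62cfff8fb0f632c7d8d80f46d9ed02a712691c48fcffe1ec6a1241965d84f1a27125e8bb02a164f8bffc2d56e99e02a9c3e89212339513b1644e02affe3dc3c8291ee484a4a1f4f461d7927013672bff9202903e0900a70522688f1a73ee37c3ea21ffe1e4689211921e46816e20e264148983fa337ffbde1ce25c9b0f619c520a382912c2548507cffe334528a50fa1f45296c1c8b0c4a0a80523dfff8e21c624c491a86127e4ca8911200a4478a6ffe2b0558ab15814c3d8660ca19031862000187ff87a0a41483d0ac0c017c2f05d0b80002d85affe2a4538a70b2160538510f215c2b0550a8003ff80000000000000000000000000000ac15029))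
noncomputable def tJ : Tr := (.leaf (nat_lit 0x80e00142b7200a15968000075c88d5a8015b480010076858082465488002814c02cc04408c100000a56952928d114500ca402805b806011860010000340904c0300407000205810830a6b480402d0000000002144018e60002005008524200000102920200f401000280e041c11280e9480402c80701ce40000a0185202403018050106008005300c624800390002008011412198a6100a0014000148091005000a42818188060000c020800402230088940c00100a0480008806520002010000022018061000201980800022880000100a01825200008a000300d2224030040028046000e0148400080601002000720040000c60014003000004800010002004010012000c41006300000180009000001004400a4000000494000a022800031c0011c0200c0480025000201802300060010100004400000000201400000420008011002000010008000000020000040000800010c200000004002000210000000010000000004000020000008000f7bdef7bdef78000))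
noncomputable def tQ : Tr := (.leaf (nat_lit 0x0))
noncomputable def tR : TC.WTr := (.node (.node r0 r1) (.node r2 r3))
def hl : List ℕ := [3, 4, 4, 3, 5, 6, 6, 5, 7, 8, 8, 7, 9, 10, 10, 9, 11, 12, 12, 11]
def B : List (List ℕ) := [[0, 0], [1, 2], [2, 1], [3, 4], [4, 3], [5, 6], [6, 5], [7, 8], [8, 7], [9, 10], [10, 9], [11, 12], [12, 11], [11, 11, 11], [7, 7, 7], [9, 9, 9], [10, 12], [7, 9, 7, 9, 7, 9, 7, 9, 7, 9, 7, 9], [7, 9, 8, 10, 7, 9, 8, 10, 7, 9, 8, 10, 7, 9, 8, 10], [7, 10, 7, 10, 7, 10, 7, 10], [7, 9, 8, 10, 8, 12], [3, 3, 3, 3, 3, 3], [5, 5, 5, 5, 5, 5], [3, 6, 3, 6, 8], [4, 5, 4, 4, 5, 10], [3, 5, 3, 5, 3, 5, 3, 5, 3, 5, 3, 5, 3, 5, 3, 5, 3, 5, 3, 5, 3, 5, 3, 5], [3, 5, 4, 6, 3, 5, 4, 6, 3, 5, 4, 6, 3, 5, 4, 6], [3, 6, 3, 6, 3, 6, 3, 6, 3, 6, 3, 6], [3, 6, 9, 8, 9], [3, 8, 4, 4, 8], [4, 6, 8, 5, 8], [6, 11, 3, 8, 10, 7], [1, 1, 1, 1, 1], [2, 0, 2, 2, 0, 2, 4], [2,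 2, 0, 1, 1, 0, 2, 2, 6], [0, 1, 0, 1, 0, 1, 0, 1, 0, 1, 0, 1, 0, 1, 0, 1, 0, 1], [0, 1, 0, 2, 0, 1, 0, 2, 0, 1, 0, 2], [0, 2, 0, 2, 0, 2, 0, 2, 0, 2, 0, 2, 0, 2, 0, 2, 0, 2], [0, 6, 0, 5], [1, 11, 2, 3, 9, 4], [0, 4, 8, 0, 7, 3], [2, 8, 1, 9, 6, 6, 3], [0, 2, 2, 7, 0, 9, 3], [0, 11, 3, 0, 8, 5, 5, 3], [1, 6, 1, 3, 2, 3], [1, 5, 1, 8, 2, 3, 7], [1, 3, 11, 1, 8, 6, 6, 3], [2, 11, 2, 2, 6, 9, 5, 5], [1, 8, 4, 2, 5, 8, 5, 4], [2, 4, 9, 3, 1, 10], [1, 4, 0, 4, 1, 7, 5], [0, 2, 9, 1, 0, 9, 5, 4], [2, 4, 0, 3, 1, 7, 4, 10, 6], [0, 2, 8, 1, 0, 9, 6, 6, 3], [0, 3, 0, 2, 0, 5, 3, 5, 4]]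
def subs : List (List ℕ) := [[3], [4], [5], [6], [7], [8], [9], [10], [11], [12]]
def ex : List (List ℕ) := []
def inv (x : ℕ) : ℕ := [0, 2, 1, 4, 3, 6, 5, 8, 7, 10, 9, 12, 11].getD x 0
noncomputable def rS : ℕ → ℕ := rowOf tS (nat_lit 7) (nat_lit 127) (nat_lit 154) (nat_lit 22835963083295358096932575511191922182123945983)
noncomputable def rJ : ℕ → ℕ := rowOf tJ (nat_lit 7) (nat_lit 127) (nat_lit 75) (nat_lit 37778931862957161709567)
noncomputable def C : TC.Cfg where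
  S := look rS (nat_lit 11) (nat_lit 2047)
  J := look rJ (nat_lit 5) (nat_lit 31)
  Q := lookQ tQ (nat_lit 7) (nat_lit 1) (nat_lit 1)
  R := tR.get
  hl := fun x => hl.contains x
  n := (nat_lit 40)
  M := (nat_lit 40)
  top := (nat_lit 1360)
  nl := (nat_lit 13)
  need := (nat_lit 13)
  nr := (nat_lit 15)
theorem k0 : TC.chkRange C 0 1 = true := by decide +kernel
theorem rows0 : ∀ c < (0 + 1) * 64, c < C.M → TC.chkRow C c = true :=
  TC.rows_step (TC.rows_zero C) k0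
theorem main {G : Type*} [Group G] (g : ℕ → G) (hB : ∀ r ∈ B, ev g r = 1) (H : Subgroup G)
    (hH : ∀ w ∈ subs, ev g w ∈ H) :
    H.relIndex (Subgroup.closure (g '' {x | x < 13})) ≠ 0 ∧
      H.relIndex (Subgroup.closure (g '' {x | x < 13})) ≤ 40 :=
  TC.index_le C B subs ex inv hl tR.hint rfl (by decide +kernel) (by decide +kernel)
    (TC.rows_done rows0 (by decide +kernel)) g hB H hH
end H0.TCS430
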